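import Cfsg.Agent.Lib.GoldSFour.Sections
import Cfsg.Agent.S0803
import Cfsg.Agent.Lib.PSLOrderSpectrum.Main

/-!
# Sections of degree three and four in `PSL₂(q)`
-/

set_option autoImplicit false
set_option linter.unusedSectionVars false
set_option linter.style.haveILetI false

namespace Cfsg.Agent.GoldSFour

open Matrix Cfsg.Agent.Forms.KleinPSL
open scoped MatrixGroups

variable {F : Type*} [Field F] [Fintype F]

local notation "PG" => Matrix.ProjectiveSpecialLinearGroup (Fin 2) F
local notation "M2" => Matrix (Fin 2) (Fin 2) F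

theorem noFour_of_char_two [CharP F 2] : NoFour PG := by
  intro g hg
  obtain ⟨X, rfl⟩ := pi_surjective g
  rw [← map_pow] at hg ⊢
  rw [S0803.sq_of_four X (S0803.pi_one _ hg), map_one]

theorem noFour_of_mod (h : Fintype.card F % 8 = 3 ∨ Fintype.card F % 8 = 5) : NoFour PG := by
  have h2 : (2 : F) ≠ 0 := Classical.SylowSL2.two_ne_zero_of_odd (Nat.odd_iff.2 (by omega))
  intro g hg
  obtain ⟨X, rfl⟩ := pi_surjective g
  by_contra hne
  rw [← map_pow] at hg hne
  have hX2 : ¬ (X * X = 1 ∨ X * X = -1) := fun h =>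
    hne (pi_eq_one.2 (by rwa [pow_two]))
  have hX4 : X ^ (2 ^ 2) = -1 := by
    rcases pi_eq_one.1 hg with h | h
    · refine absurd (Forms.KleinClasses.sq_eq_one (h2 := h2) ?_) hX2
      rw [← h]; simp [pow_succ, mul_assoc]
    · exact h
  have ho8 : orderOf X = 2 ^ (2 + 1) := by
    refine orderOf_eq_prime_pow ?_ ?_
    · rw [hX4]; exact (ne_neg_self h2 1).symm
    · rw [pow_succ, pow_mul, hX4]; simp
  obtain ⟨p, hpc⟩ := CharP.exists F
  haveI := hpc
  haveI : Fact p.Prime := ⟨CharP.char_is_prime F p⟩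
  have hp2 : p ≠ 2 := by
    rintro rfl
    exact h2 CharTwo.two_eq_zero
  have hcop : Nat.Coprime (orderOf X) p := by
    rw [ho8]
    exact Nat.Coprime.pow_left _ ((Nat.coprime_primes Nat.prime_two Fact.out).2 hp2.symm)
  have h8 := S0800.result rfl p X hcop
  rw [ho8] at h8
  omega

/-- Outside characteristic three, and when `-1` is a square, an involution inverts an element of
order three. -/
theorem exists_norm (h : (3 : F) ≠ 0 ∨ IsSquare (-1 : F)) :
    ∃ a b : F, a * a + a * b + b * b = -1 := by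
  classical
  by_cases h2 : (2 : F) = 0
  · exact ⟨1, 0, by linear_combination h2⟩
  rcases h with h3 | ⟨r, hr⟩
  · have hodd : Fintype.card F % 2 = 1 :=
      FiniteField.odd_card_of_char_ne_two fun hc => h2 (by
        haveI : CharP F 2 := hc ▸ ringChar.charP F
        exact CharTwo.two_eq_zero)
    obtain ⟨u, v, huv⟩ := FiniteField.exists_root_sum_quadratic
      (f := Polynomial.C (1 : F) * Polynomial.X ^ 2 + Polynomial.C (0 : F) * Polynomial.X +
        Polynomial.C 4)
      (g := Polynomial.C (3 : F) * Polynomial.X ^ 2 + Polynomial.C (0 : F) * Polynomial.X +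
        Polynomial.C 0)
      (Polynomial.degree_quadratic one_ne_zero) (Polynomial.degree_quadratic h3) hodd
    simp at huv
    refine ⟨(u - v) / 2, v, ?_⟩
    have h4 : (2 : F) * 2 ≠ 0 := mul_ne_zero h2 h2
    field_simp
    linear_combination huv
  · exact ⟨r, 0, by rw [hr]; ring⟩

theorem invertsThree (h : (3 : F) ≠ 0 ∨ IsSquare (-1 : F)) : InvertsThree PG := by
  obtain ⟨a, b, hab⟩ := exists_norm h
  let g : SL(2, F) := ⟨!![a, b; a + b, -a], by
    rw [det_fin_two_of]; linear_combination -hab⟩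
  let x : SL(2, F) := ⟨!![0, -1; 1, -1], by rw [det_fin_two_of]; ring⟩
  have hg : g * g = -1 := by
    refine Subtype.ext ?_
    rw [Matrix.SpecialLinearGroup.coe_neg, Matrix.SpecialLinearGroup.coe_mul,
      Matrix.SpecialLinearGroup.coe_one]
    show !![a, b; a + b, -a] * !![a, b; a + b, -a] = -(1 : M2)
    ext i j
    fin_cases i <;> fin_cases j <;> simp [Matrix.mul_apply, Fin.sum_univ_two]
    · linear_combination hab
    · ring
    · ring
    · linear_combination hab
  have hx3 : x ^ 3 = 1 := by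
    refine Subtype.ext ?_
    rw [Matrix.SpecialLinearGroup.coe_pow, Matrix.SpecialLinearGroup.coe_one]
    show !![(0 : F), -1; 1, -1] ^ 3 = (1 : M2)
    ext i j
    fin_cases i <;> fin_cases j <;> simp [pow_succ, Matrix.mul_apply, Fin.sum_univ_two]
  have hgx : x * g * x = g := by
    refine Subtype.ext ?_
    rw [Matrix.SpecialLinearGroup.coe_mul, Matrix.SpecialLinearGroup.coe_mul]
    show !![(0 : F), -1; 1, -1] * !![a, b; a + b, -a] * !![(0 : F), -1; 1, -1] =
      !![a, b; a + b, -a]
    ext i j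
    fin_cases i <;> fin_cases j <;> simp [Matrix.mul_apply, Fin.sum_univ_two]
    all_goals ring
  refine ⟨pi F g, pi F x, ?_, ?_, ?_, ?_⟩
  · rw [← map_mul]; exact pi_eq_one.2 (Or.inr hg)
  · intro e
    rcases pi_eq_one.1 e with e | e
    · have := congrFun (congrFun (congrArg Subtype.val e) 1) 0
      simp [x] at this
    · have := congrFun (congrFun (congrArg Subtype.val e) 1) 0
      simp [x, Matrix.SpecialLinearGroup.coe_neg] at this
  · rw [← map_pow, hx3, map_one]
  · rw [mul_inv_eq_iff_eq_mul, ← map_mul, ← map_inv, ← map_mul]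
    congr 1
    rw [eq_inv_mul_iff_mul_eq, ← mul_assoc, hgx]

theorem neg_one_not_square {n : ℕ} (hF : Fintype.card F = 3 ^ (2 * n + 1)) (r : F) :
    r * r ≠ -1 := fun h => by
  have h1 : IsSquare (-1 : F) := ⟨r, h.symm⟩
  rw [FiniteField.isSquare_neg_one_iff] at h1
  rw [hF, pow_succ, pow_mul, Nat.mul_mod, Nat.pow_mod] at h1
  norm_num at h1

theorem card_mod_eight {n : ℕ} (hF : Fintype.card F = 3 ^ (2 * n + 1)) :
    Fintype.card F % 8 = 3 := by
  rw [hF, pow_succ, pow_mul, Nat.mul_mod, Nat.pow_mod]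
  norm_num

/-- A square root of `-1` does not carry a nilpotent matrix to a multiple of itself. -/
theorem eq_zero_of_mul_mul {g N : M2} (hns : ∀ r : F, r * r ≠ -1) (hg : g * g = -1)
    (hN : N * N = 0) (htr : N 0 0 + N 1 1 = 0) (h : N * g * N = 0) : N = 0 := by
  have e00 := congrFun (congrFun h 0) 0
  have e01 := congrFun (congrFun h 0) 1
  have e10 := congrFun (congrFun h 1) 0
  have f00 := congrFun (congrFun hN 0) 0
  have g00 := congrFun (congrFun hg 0) 0
  have g01 := congrFun (congrFun hg 0) 1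
  have g10 := congrFun (congrFun hg 1) 0
  simp [Matrix.mul_apply, Fin.sum_univ_two] at e00 e01 e10 f00 g00 g01 g10
  have hd : N 1 1 = -N 0 0 := by linear_combination htr
  have ht : g 0 0 + g 1 1 = 0 := by
    by_contra ht
    have hb : g 0 1 = 0 := (mul_eq_zero.1 (show g 0 1 * (g 0 0 + g 1 1) = 0 by
      linear_combination g01)).resolve_right ht
    refine hns (g 0 0) ?_
    rw [hb, zero_mul, add_zero] at g00
    exact g00
  have hgd : g 1 1 = -g 0 0 := by linear_combination ht
  rw [hd, hgd] at e01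
  by_cases hn : N 0 1 = 0
  · rw [hn, zero_mul, add_zero] at f00
    have hm : N 0 0 = 0 := mul_self_eq_zero.1 f00
    by_cases ho : N 1 0 = 0
    · ext i j
      fin_cases i <;> fin_cases j <;> simp [hn, hm, ho, hd]
    · exfalso
      simp [hm, hd, ho] at e10
      rw [e10, zero_mul, add_zero] at g00
      exact hns _ g00
  · exfalso
    refine hns ((g 0 0 * N 0 1 - g 0 1 * N 0 0) / N 0 1) ?_
    field_simp
    linear_combination (N 0 1 ^ 2) * g00 - g 0 1 * e01

/-- Centralizing or inverting an element of order three. -/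
theorem no_norm_three {n : ℕ} (hF : Fintype.card F = 3 ^ (2 * n + 1)) {a y : PG}
    (ha : a * a = 1) (ha1 : a ≠ 1) (hy : y ^ 3 = 1) (hy1 : y ≠ 1) :
    a * y * a⁻¹ ≠ y ∧ a * y * a⁻¹ ≠ y⁻¹ := by
  have : Fact (Nat.Prime 3) := ⟨Nat.prime_three⟩
  haveI : CharP F 3 := charP_of_card_eq_prime_pow hF
  have h2 : (2 : F) ≠ 0 := Ring.two_ne_zero (by rw [ringChar.eq F 3]; norm_num)
  haveI : CharP M2 3 :=
    charP_of_injective_algebraMap (algebraMap F M2).injective 3
  obtain ⟨g, rfl⟩ := pi_surjective a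
  obtain ⟨Y₀, hY₀⟩ := pi_surjective y
  obtain ⟨Y, hY, hY3⟩ : ∃ Y : SL(2, F), pi F Y = y ∧ Y ^ 3 = 1 := by
    rcases pi_eq_one.1 (show pi F (Y₀ ^ 3) = 1 by rw [map_pow, hY₀, hy]) with h | h
    · exact ⟨Y₀, hY₀, h⟩
    · refine ⟨-Y₀, ?_, ?_⟩
      · rw [← hY₀]; exact pi_eq_iff.2 (Or.inr rfl)
      · rw [Odd.neg_pow (by decide), h, neg_neg]
  subst hY
  have hgg : g * g = -1 := by
    rcases pi_eq_one.1 (show pi F (g * g) = 1 by rw [map_mul, ha]) with h | h
    · exact absurd (pi_eq_one.2 (Forms.KleinClasses.sq_eq_one (h2 := h2) h)) ha1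
    · exact h
  set N : M2 := (Y : M2) - 1 with hN
  have hY3' : (Y : M2) ^ 3 = 1 := by
    rw [← Matrix.SpecialLinearGroup.coe_pow, hY3, Matrix.SpecialLinearGroup.coe_one]
  have hN3 : N ^ 3 = 0 := by
    rw [hN, sub_pow_char_of_commute 3 (Commute.one_right _), hY3', one_pow, sub_self]
  have hN0 : N ≠ 0 := fun e => hy1 (pi_eq_one.2 (Or.inl (Subtype.ext (by
    rw [Matrix.SpecialLinearGroup.coe_one]; exact sub_eq_zero.1 e))))
  have hdet : N.det = 0 := by
    have := congrArg Matrix.det hN3
    rw [Matrix.det_pow, Matrix.det_zero] at this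
    exact eq_zero_of_pow_eq_zero this
  have hdetY : (Y : M2).det = 1 := Y.2
  have hYe : (Y : M2) = N + 1 := by rw [hN, sub_add_cancel]
  have htr : N 0 0 + N 1 1 = 0 := by
    rw [hYe, Matrix.det_fin_two] at hdetY
    rw [Matrix.det_fin_two] at hdet
    simp at hdetY
    linear_combination hdetY - hdet
  have hNN : N * N = 0 := by
    rw [Matrix.det_fin_two] at hdet
    have hd : N 1 1 = -N 0 0 := by linear_combination htr
    ext i j
    fin_cases i <;> fin_cases j <;> simp [Matrix.mul_apply, Fin.sum_univ_two, hd] <;>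
      (try rw [hd] at hdet) <;> (first | linear_combination -hdet | ring)
  have hYinv : ((Y⁻¹ : SL(2, F)) : M2) = 1 - N := by
    refine left_inv_eq_right_inv (a := (Y : M2)) ?_ ?_
    · rw [← Matrix.SpecialLinearGroup.coe_mul, inv_mul_cancel, Matrix.SpecialLinearGroup.coe_one]
    · rw [hYe, add_mul, one_mul, mul_sub, mul_one, hNN, sub_zero]; abel
  have main : ∀ Z : SL(2, F), ∀ c : F, (Z : M2) = 1 + c • N →
      pi F g * pi F Y * (pi F g)⁻¹ ≠ pi F Z := by
    intro Z c hZ e
    rw [mul_inv_eq_iff_eq_mul, ← map_mul, ← map_mul] at e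
    have hconj : ∀ W : SL(2, F), g * Y = W * g → (W : M2).trace = (Y : M2).trace := by
      intro W hW
      have : W = g * Y * g⁻¹ := by rw [hW, mul_inv_cancel_right]
      rw [this, Matrix.SpecialLinearGroup.coe_mul, Matrix.SpecialLinearGroup.coe_mul,
        Matrix.trace_mul_comm, ← mul_assoc, ← Matrix.SpecialLinearGroup.coe_mul, inv_mul_cancel,
        Matrix.SpecialLinearGroup.coe_one, one_mul]
    rcases pi_eq_iff.1 e with h | h
    · have h' := congrArg Subtype.val h
      rw [Matrix.SpecialLinearGroup.coe_mul, Matrix.SpecialLinearGroup.coe_mul, hYe, hZ, mul_add,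
        mul_one, add_mul, one_mul, add_comm, add_right_inj] at h'
      refine hN0 (eq_zero_of_mul_mul (g := (g : M2)) (fun r => neg_one_not_square hF r) ?_ hNN htr ?_)
      · rw [← Matrix.SpecialLinearGroup.coe_mul, hgg, Matrix.SpecialLinearGroup.coe_neg,
          Matrix.SpecialLinearGroup.coe_one]
      · rw [mul_assoc, h', smul_mul_assoc, mul_smul_comm, ← mul_assoc, hNN, zero_mul, smul_zero]
    · have h' := hconj (-Z) (by rw [h, neg_mul])
      rw [Matrix.SpecialLinearGroup.coe_neg, hZ, hYe, Matrix.trace_neg, Matrix.trace_add,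
        Matrix.trace_add, Matrix.trace_smul, Matrix.trace_one, Matrix.trace_fin_two, htr,
        smul_zero, zero_add, add_zero, Fintype.card_fin] at h'
      have h4 : (2 : F) * 2 = 0 := by push_cast at h'; linear_combination -h'
      exact mul_ne_zero h2 h2 h4
  refine ⟨main Y 1 (by rw [one_smul, hYe, add_comm]), ?_⟩
  rw [← map_inv]
  exact main _ (-1) (by rw [hYinv, neg_smul, one_smul, sub_eq_add_neg])

theorem not_invertsThree {n : ℕ} (hF : Fintype.card F = 3 ^ (2 * n + 1)) :
    ¬ InvertsThree PG := by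
  rintro ⟨a, x, ha, hx1, hx3, hax⟩
  refine (no_norm_three hF ha ?_ hx3 hx1).2 hax
  rintro rfl
  rw [one_mul, inv_one, mul_one] at hax
  have h2 : x * x = 1 := by nth_rewrite 2 [hax]; exact mul_inv_cancel x
  rw [pow_succ, pow_two, h2, one_mul] at hx3
  exact hx1 hx3

end Cfsg.Agent.GoldSFour
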