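import Cfsg.Agent.Lib.GoldSFour.Sections
import Cfsg.Agent.SimpleFacts.UnitaryThreeSections
import Cfsg.Agent.Lib.AutPSU.Centre

/-!
# Sections of degree three and four in `PSU₃(2^n)`
-/

set_option autoImplicit false
set_option linter.unusedSectionVars false
set_option linter.style.haveILetI false

namespace Cfsg.Agent.GoldSFour

open Matrix Cfsg.Agent.Classical.Unitary Cfsg.Agent.SimpleFacts.UnitaryThreeReflection
open Cfsg.Agent.SimpleFacts.UnitaryThreeSections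

variable {F : Type*} [Field F] [Fintype F] {q : ℕ} (hF : Fintype.card F = q ^ 2) [CharP F 2]

local notation "Vec" => (Fin 3 → F)
local notation "Hm" => Cfsg.hermForm 3 F q

include hF

theorem psu_invertsThree : InvertsThree (Cfsg.PSU 3 F q) := by
  have hA : ∀ u v : Vec, Hm (!![0, 1, 0; 1, 0, 0; 0, 0, 1] *ᵥ u) (!![0, 1, 0; 1, 0, 0; 0, 0, 1] *ᵥ v)
      = Hm u v := by
    intro u v
    rw [H_three hF, H_three hF]
    simp [Matrix.mulVec, dotProduct, Fin.sum_univ_three]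
    ring
  have hX : ∀ u v : Vec, Hm (!![0, 1, 0; 0, 0, 1; 1, 0, 0] *ᵥ u) (!![0, 1, 0; 0, 0, 1; 1, 0, 0] *ᵥ v)
      = Hm u v := by
    intro u v
    rw [H_three hF, H_three hF]
    simp [Matrix.mulVec, dotProduct, Fin.sum_univ_three]
    ring
  have hdA : (!![0, 1, 0; 1, 0, 0; 0, 0, 1] : Matrix (Fin 3) (Fin 3) F).det = 1 := by
    simp [Matrix.det_fin_three, CharTwo.neg_eq]
  have hdX : (!![0, 1, 0; 0, 0, 1; 1, 0, 0] : Matrix (Fin 3) (Fin 3) F).det = 1 := by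
    simp [Matrix.det_fin_three]
  set a : Cfsg.SU 3 F q := suMk _ hdA hA
  set x : Cfsg.SU 3 F q := suMk _ hdX hX
  have haa : a * a = 1 := Subtype.ext (Subtype.ext (by
    show (!![0, 1, 0; 1, 0, 0; 0, 0, 1] : Matrix (Fin 3) (Fin 3) F) * !![0, 1, 0; 1, 0, 0; 0, 0, 1] = 1
    ext i j
    fin_cases i <;> fin_cases j <;> simp [Matrix.mul_apply, Fin.sum_univ_three]))
  have hx3 : x * x * x = 1 := Subtype.ext (Subtype.ext (by
    show (!![0, 1, 0; 0, 0, 1; 1, 0, 0] : Matrix (Fin 3) (Fin 3) F) * !![0, 1, 0; 0, 0, 1; 1, 0, 0] *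
      !![0, 1, 0; 0, 0, 1; 1, 0, 0] = 1
    ext i j
    fin_cases i <;> fin_cases j <;> simp [Matrix.mul_apply, Fin.sum_univ_three]))
  have hxax : x * a * x = a := Subtype.ext (Subtype.ext (by
    show (!![0, 1, 0; 0, 0, 1; 1, 0, 0] : Matrix (Fin 3) (Fin 3) F) * !![0, 1, 0; 1, 0, 0; 0, 0, 1] *
      !![0, 1, 0; 0, 0, 1; 1, 0, 0] = !![0, 1, 0; 1, 0, 0; 0, 0, 1]
    ext i j
    fin_cases i <;> fin_cases j <;> simp [Matrix.mul_apply, Fin.sum_univ_three]))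
  refine ⟨QuotientGroup.mk' _ a, QuotientGroup.mk' _ x, ?_, ?_, ?_, ?_⟩
  · rw [← map_mul, haa, map_one]
  · intro e
    rw [QuotientGroup.mk'_apply, QuotientGroup.eq_one_iff, mem_center_iff hF (by norm_num)] at e
    obtain ⟨c, hc⟩ := e
    have h01 := congrFun (congrFun hc 0) 1
    simp [x, suMk, mat] at h01
  · rw [← map_pow, pow_succ, pow_two, hx3, map_one]
  · rw [mul_inv_eq_iff_eq_mul, ← map_mul, ← map_inv, ← map_mul]
    congr 1
    rw [eq_inv_mul_iff_mul_eq, ← mul_assoc, hxax]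

theorem lift_two (g : Cfsg.PSU 3 F q) {k : ℕ} (hg : g ^ 2 ^ k = 1) :
    ∃ h : Cfsg.SU 3 F q, QuotientGroup.mk h = g ∧ ∃ j, h ^ 2 ^ j = 1 := by
  obtain ⟨y, rfl⟩ := QuotientGroup.mk'_surjective _ g
  obtain ⟨j, m, hm, hj⟩ := Nat.exists_eq_pow_mul_and_not_dvd (orderOf_pos y).ne' 2 (by norm_num)
  have hcop : Nat.Coprime m (2 ^ k) :=
    Nat.Coprime.pow_right k ((Nat.prime_two.coprime_iff_not_dvd.2 hm).symm)
  obtain ⟨i, hi⟩ := exists_pow_eq_self_of_coprime (x := QuotientGroup.mk' _ y)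
    (Nat.Coprime.coprime_dvd_right (orderOf_dvd_of_pow_eq_one hg) hcop)
  refine ⟨(y ^ m) ^ i, ?_, j, ?_⟩
  · rw [← hi, ← map_pow, ← map_pow]; rfl
  · rw [← pow_mul, ← pow_mul, show m * (i * 2 ^ j) = 2 ^ j * m * i by ring, pow_mul, ← hj,
      pow_orderOf_eq_one, one_pow]

omit hF in
theorem uni_one (v : Vec) : Uni v (1 : Cfsg.SU 3 F q) :=
  ⟨by rw [mat_one, Matrix.one_mulVec], fun w _ => ⟨0, by rw [mat_one, Matrix.one_mulVec, zero_smul, add_zero]⟩⟩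

/-- Sylow 2-subgroups meet trivially. -/
theorem psu_sylow_ti (P R : Sylow 2 (Cfsg.PSU 3 F q)) (x : Cfsg.PSU 3 F q) (hxP : x ∈ P)
    (hxR : x ∈ R) (hx1 : x ≠ 1) : P = R := by
  classical
  haveI : Fact (Nat.Prime 2) := ⟨Nat.prime_two⟩
  have hpow : ∀ (S : Sylow 2 (Cfsg.PSU 3 F q)) g, g ∈ S → ∃ k : ℕ, g ^ 2 ^ k = 1 := by
    intro S g hg
    obtain ⟨k, hk⟩ := S.2 ⟨g, hg⟩
    exact ⟨k, congrArg Subtype.val hk⟩
  have inj : ∀ {s t : Cfsg.SU 3 F q} {i j : ℕ}, s ^ 2 ^ i = 1 → t ^ 2 ^ j = 1 →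
      (QuotientGroup.mk s : Cfsg.PSU 3 F q) = QuotientGroup.mk t → s = t := fun hs ht h =>
    Cfsg.Agent.AutPSU.Centre.mk_inj_pow hF 2 (by norm_num) hs ht h
  have near : ∀ (S : Sylow 2 (Cfsg.PSU 3 F q)) (y : Cfsg.SU 3 F q) (j : ℕ),
      y ^ 2 ^ j = 1 → y ≠ 1 → (QuotientGroup.mk y : Cfsg.PSU 3 F q) ∈ S →
      ∀ v : Vec, v ≠ 0 → Hm v v = 0 → mat y *ᵥ v = v →
      ∀ (g : Cfsg.SU 3 F q) (i : ℕ), g ^ 2 ^ i = 1 → (QuotientGroup.mk g : Cfsg.PSU 3 F q) ∈ S →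
        Uni v g := by
    intro S y j hy hy1 hyS v hv hvv hyv
    obtain ⟨zb, hzb, hzb1⟩ : ∃ z : (S : Subgroup (Cfsg.PSU 3 F q)),
        z ∈ Subgroup.center (S : Subgroup (Cfsg.PSU 3 F q)) ∧ z ≠ 1 := by
      haveI : Nontrivial (S : Subgroup (Cfsg.PSU 3 F q)) := ⟨⟨⟨_, hyS⟩, 1, fun e => hy1
        (inj hy (one_pow (2 ^ 0)) (congrArg Subtype.val e))⟩⟩
      haveI := S.2.center_nontrivial
      obtain ⟨⟨z, hz⟩, hz1⟩ := exists_ne (1 : Subgroup.center (S : Subgroup (Cfsg.PSU 3 F q)))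
      exact ⟨z, hz, fun e => hz1 (Subtype.ext e)⟩
    obtain ⟨k, hk⟩ := hpow S zb zb.2
    obtain ⟨z, hz, l, hzl⟩ := lift_two hF (zb : Cfsg.PSU 3 F q) hk
    have hz1 : z ≠ 1 := fun e => hzb1 (Subtype.ext (by rw [← hz, e]; rfl))
    have comm : ∀ (g : Cfsg.SU 3 F q) (i : ℕ), g ^ 2 ^ i = 1 →
        (QuotientGroup.mk g : Cfsg.PSU 3 F q) ∈ S → g * z = z * g := by
      intro g i hgi hgS
      have h1 := congrArg Subtype.val (Subgroup.mem_center_iff.1 hzb ⟨_, hgS⟩)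
      have : g * z * g⁻¹ = z := inj (i := l) (by rw [conj_pow, hzl]; simp) hzl (by
        rw [QuotientGroup.mk_mul, QuotientGroup.mk_mul, QuotientGroup.mk_inv, hz,
          mul_inv_eq_iff_eq_mul]
        exact h1)
      conv_rhs => rw [← this]
      rw [inv_mul_cancel_right]
    have hzy := comm y j hy hyS
    obtain ⟨u, hu0, huu, hzu, huniq⟩ := exists_fixed hF (sub_one_nilpotent (p := 2) hzl) hz1
    have fixu : ∀ (g : Cfsg.SU 3 F q) (i : ℕ), g ^ 2 ^ i = 1 →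
        (QuotientGroup.mk g : Cfsg.PSU 3 F q) ∈ S → Uni u g := by
      intro g i hgi hgS
      obtain ⟨c, hc⟩ := huniq (mat g *ᵥ u) (by rw [SU_H, huu]) (by
        rw [← mul_mulVec, ← comm g i hgi hgS, mul_mulVec, hzu])
      exact uni_of_nilpotent hF hu0 huu (sub_one_nilpotent (p := 2) hgi) hc
    obtain ⟨w, hw0, hww, hyw, hyuniq⟩ := exists_fixed hF (sub_one_nilpotent (p := 2) hy) hy1
    obtain ⟨a, ha⟩ := hyuniq v hvv hyv
    obtain ⟨b, hb⟩ := hyuniq u huu (fixu y j hy hyS).1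
    have hb0 : b ≠ 0 := fun e => hu0 (by rw [hb, e, zero_smul])
    have hvu : v = (a / b) • u := by rw [ha, hb, smul_smul, div_mul_cancel₀ _ hb0]
    intro g i hgi hgS
    obtain ⟨g1, g2⟩ := fixu g i hgi hgS
    have hab0 : a / b ≠ 0 := fun e => hv (by rw [hvu, e, zero_smul])
    refine ⟨by rw [hvu, Matrix.mulVec_smul, g1], fun w hw => ?_⟩
    rw [hvu, H_smul_right, mul_eq_zero] at hw
    obtain ⟨c, hc⟩ := g2 w (hw.resolve_left (pow_ne_zero _ hab0))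
    refine ⟨c / (a / b), ?_⟩
    rw [hc, hvu, smul_smul, div_mul_cancel₀ _ hab0]
  obtain ⟨k, hk⟩ := hpow P x hxP
  obtain ⟨y, hy, j, hyj⟩ := lift_two hF x hk
  have hy1 : y ≠ 1 := fun e => hx1 (by rw [← hy, e]; rfl)
  obtain ⟨v, hv, hvv, hyv, -⟩ := exists_fixed hF (sub_one_nilpotent (p := 2) hyj) hy1
  have hinv : ∀ g : Cfsg.SU 3 F q, Uni v g → Uni v g⁻¹ := by
    intro g hg
    obtain ⟨i, hi⟩ := uni_pow (p := 2) hF hg
    have : ∀ m : ℕ, Uni v (g ^ m) := by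
      intro m
      induction m with
      | zero => rw [pow_zero]; exact uni_one v
      | succ m ih => rw [pow_succ]; exact uni_mul hF ih hg
    have he : g⁻¹ = g ^ (2 ^ i - 1) :=
      inv_eq_of_mul_eq_one_left (by rw [← pow_succ, Nat.sub_add_cancel (Nat.one_le_two_pow), hi])
    rw [he]; exact this _
  let U : Subgroup (Cfsg.SU 3 F q) :=
    { carrier := {g | Uni v g}
      mul_mem' := fun hg hh => uni_mul hF hg hh
      one_mem' := uni_one v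
      inv_mem' := fun hg => hinv _ hg }
  have hU : IsPGroup 2 U := fun g => by
    obtain ⟨i, hi⟩ := uni_pow (p := 2) hF g.2
    exact ⟨i, Subtype.ext hi⟩
  set V := U.map (QuotientGroup.mk' (Subgroup.center (Cfsg.SU 3 F q)))
  have hle : ∀ S : Sylow 2 (Cfsg.PSU 3 F q), x ∈ S → (S : Subgroup (Cfsg.PSU 3 F q)) ≤ V := by
    intro S hxS g hg
    obtain ⟨i, hi⟩ := hpow S g hg
    obtain ⟨g', hg', l, hl⟩ := lift_two hF g hi
    exact ⟨g', near S y j hyj hy1 (hy ▸ hxS) v hv hvv hyv g' l hl (hg' ▸ hg), hg'⟩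
  exact Sylow.ext ((P.3 (hU.map _) (hle P hxP)).symm.trans (R.3 (hU.map _) (hle R hxR)))

theorem psu_not_involves_four : ¬ Cfsg.Involves (Equiv.Perm (Fin 4)) (Cfsg.PSU 3 F q) :=
  not_involves_four_of_ti (psu_sylow_ti hF)

end Cfsg.Agent.GoldSFour
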