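import Cfsg.Agent.Lib.GoldSFour.Ree
import Cfsg.Agent.Lib.GoldSFour.Unitary
import Cfsg.Agent.Lib.Suzuki.SubgroupClasses
import Cfsg.Agent.Lib.Suzuki.LieEquiv
import Cfsg.Agent.Lib.J1.Spectrum
import Cfsg.Agent.S2131

/-!
# Sections of degree three and four in the Goldschmidt groups

The statement, from the order formula for an involution centralizer `C₂ × PSL₂(q)`.
-/

set_option autoImplicit false
set_option linter.unusedSectionVars false
set_option linter.style.haveILetI false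

namespace Cfsg.Agent.GoldSFour

open Subgroup Equiv Cfsg

universe u

/-- The statement of the order formula. -/
def OrderFormula : Prop :=
  ∀ {G : Type u} [Group G] [Finite G] [IsSimpleGroup G], (∀ P : Sylow 2 G, ∀ a b : P, a * b = b * a) →
    ∀ {F : Type} [Field F] [Fintype F], 3 ≤ Fintype.card F → ∀ t : G, orderOf t = 2 →
    Nonempty (Subgroup.centralizer ({t} : Set G) ≃*
      Multiplicative (ZMod 2) × Matrix.ProjectiveSpecialLinearGroup (Fin 2) F) →
    (∃ m : ℕ, 1 ≤ m ∧ Fintype.card F = 3 ^ (2 * m + 1) ∧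
        Nat.card G = (3 ^ (2 * m + 1)) ^ 3 * ((3 ^ (2 * m + 1)) ^ 3 + 1) * (3 ^ (2 * m + 1) - 1)) ∨
      ((Fintype.card F = 4 ∨ Fintype.card F = 5) ∧ Cfsg.IsJ1 G)

variable {G : Type u} [Group G] [Finite G]

theorem ree_facts (hO : OrderFormula.{u}) (h : IsReeType G) : NoFour G ∧ InvertsThree G := by
  obtain ⟨hs, -, t, K, n, hn, ht, hodd, hidp, F, _, _, hF, ⟨eK⟩⟩ := h
  haveI := hs
  haveI : Fact (Nat.Prime 2) := ⟨Nat.prime_two⟩
  let eT : zpowers t ≃* Multiplicative (ZMod 2) :=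
    mulEquivOfPrimeCardEq (p := 2) (by rw [Nat.card_zpowers, ht])
      (by rw [Nat.card_congr Multiplicative.toAdd, Nat.card_zmod])
  let e := (idpEquiv hidp).trans (MulEquiv.prodCongr eT eK)
  have h4 := noFour_of_centralizer hF hodd e
  have h27 : 27 ≤ Fintype.card F := by
    rw [hF, show 27 = 3 ^ 3 from rfl]
    exact Nat.pow_le_pow_right (by norm_num) (by omega)
  refine ⟨h4, ?_⟩
  rcases hO (comm_sylow_two h4) (by omega : 3 ≤ Fintype.card F) t ht ⟨e⟩ with
    ⟨m, -, hm, hG⟩ | ⟨hq, -⟩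
  · refine invertsThree_of_dvd hF ht h4 e ?_
    rw [hG, ← hm]
    refine dvd_mul_of_dvd_left (dvd_mul_of_dvd_left ?_ _) _
    rw [show Fintype.card F ^ 3 = Fintype.card F * Fintype.card F ^ 2 by ring]
    refine mul_dvd_mul_left _ (dvd_pow ?_ two_ne_zero)
    rw [hF, pow_succ]
    exact dvd_mul_left _ _
  · omega

theorem suzuki_not_dvd (h : Lie.IsoSuzuki G) : ¬ 3 ∣ Nat.card G := by
  obtain ⟨F, _, _, m, hm, hF, ⟨e⟩⟩ := h
  haveI := Cfsg.Agent.Suzuki.charTwo hF
  obtain ⟨e'⟩ := Cfsg.Agent.Suzuki.lieEquiv (m := m) hm hF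
  rw [Nat.card_congr (e.trans e'.symm).toEquiv]
  exact Cfsg.Agent.Suzuki.not_three_dvd_card hm hF

theorem not_involves_three_of_psl {X : Type*} [Group X] [Finite X] {F : Type} [Field F] [Fintype F]
    {n : ℕ} (hF : Fintype.card F = 3 ^ (2 * n + 1))
    (e : X ≃* Matrix.ProjectiveSpecialLinearGroup (Fin 2) F) :
    ¬ Involves (Perm (Fin 3)) X := fun h =>
  not_invertsThree hF
    (((noFour_of_mod (Or.inl (card_mod_eight hF))).of_injective e.toMonoidHom e.injective
      |>.invertsThree h).map e.toMonoidHom e.injective)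

theorem not_involves_three_of_list (h : IsSuzukiOrPSL2OddPowerThree G) :
    ¬ Involves (Perm (Fin 3)) G := by
  rcases h with h | ⟨F, _, _, n, hF, ⟨e⟩⟩
  · exact not_involves_three_of_not_dvd (suzuki_not_dvd h)
  · exact not_involves_three_of_psl hF e

theorem j1_noFour : NoFour Cfsg.Spor.J1 := by
  intro g hg
  have hmem := Cfsg.Agent.Lib.J1.Spectrum.orderOf_mem g
  have hd := orderOf_dvd_of_pow_eq_one hg
  have hle := Nat.le_of_dvd (by norm_num) hd
  rw [← orderOf_dvd_iff_pow_eq_one]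
  simp only [Set.mem_insert_iff, Set.mem_singleton_iff] at hmem
  rcases hmem with h | h | h | h | h | h | h | h | h | h <;> rw [h] at hd hle ⊢ <;> omega

theorem alt_five_invertsThree : InvertsThree (alternatingGroup (Fin 5)) :=
  ⟨⟨swap 0 1 * swap 3 4, Equiv.Perm.mem_alternatingGroup.2 (by decide)⟩,
    ⟨swap 0 1 * swap 1 2, Equiv.Perm.mem_alternatingGroup.2 (by decide)⟩, by decide, by decide,
    by decide, by decide⟩

theorem j1_invertsThree : InvertsThree Cfsg.Spor.J1 := by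
  obtain ⟨t, -, ⟨e⟩⟩ := S2131.result
  exact alt_five_invertsThree.map ((Subgroup.centralizer ({t} : Set ↥Cfsg.Spor.J1)).subtype.comp
    (e.symm.toMonoidHom.comp (MonoidHom.inr (Multiplicative (ZMod 2)) (alternatingGroup (Fin 5)))))
    (Subtype.val_injective.comp (e.symm.injective.comp fun a b h => congrArg Prod.snd h))

theorem main (hO : OrderFormula.{u}) (hG : IsGoldschmidtGroup G) :
    ¬ Involves (Perm (Fin 4)) G ∧
      (¬ Involves (Perm (Fin 3)) G ↔ IsSuzukiOrPSL2OddPowerThree G) := by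
  suffices h : ¬ Involves (Perm (Fin 4)) G ∧
      (InvertsThree G ∨ IsSuzukiOrPSL2OddPowerThree G) from
    ⟨h.1, fun h3 => h.2.resolve_left fun hi => h3 hi.involves, not_involves_three_of_list⟩
  rcases hG with h | ⟨F, _, _, n, hn, hF, ⟨e⟩⟩ | h | ⟨F, _, _, n, hn, hF, ⟨e⟩⟩ |
    ⟨F, _, _, q, hq, h5, hm, ⟨e⟩⟩ | ⟨⟨e⟩⟩
  · exact ⟨(ree_facts hO h).1.not_involves_four, Or.inl (ree_facts hO h).2⟩
  · haveI : Fact (Nat.Prime 2) := ⟨Nat.prime_two⟩
    haveI : CharP F 2 := charP_of_card_eq_prime_pow hF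
    refine ⟨(noFour_of_char_two.of_injective e.toMonoidHom e.injective).not_involves_four,
      Or.inl ((invertsThree (Or.inl ?_)).map e.symm.toMonoidHom e.symm.injective)⟩
    rw [show (3 : F) = 2 + 1 by norm_num, CharTwo.two_eq_zero, zero_add]
    exact one_ne_zero
  · exact ⟨not_involves_four_of_three (not_involves_three_of_not_dvd (suzuki_not_dvd h)),
      Or.inr (Or.inl h)⟩
  · haveI : Fact (Nat.Prime 2) := ⟨Nat.prime_two⟩
    have hF' : Fintype.card F = (2 ^ n) ^ 2 := by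
      rw [hF, show 4 = 2 ^ 2 from rfl, ← pow_mul, ← pow_mul, mul_comm]
    haveI : CharP F 2 := charP_of_card_eq_prime_pow (p := 2) (f := n * 2) (by rw [hF', ← pow_mul])
    refine ⟨fun h => psu_not_involves_four hF' ?_,
      Or.inl ((psu_invertsThree hF').map e.symm.toMonoidHom e.symm.injective)⟩
    exact Fusion.LocalModels.involves_of_injective e.toMonoidHom e.injective h
  · subst hq
    refine ⟨((noFour_of_mod hm).of_injective e.toMonoidHom e.injective).not_involves_four, ?_⟩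
    by_cases h3 : (3 : F) ≠ 0
    · exact Or.inl ((invertsThree (Or.inl h3)).map e.symm.toMonoidHom e.symm.injective)
    push Not at h3
    haveI : CharP F 3 :=
      CharP.ringChar_of_prime_eq_zero Nat.prime_three h3 ▸ ringChar.charP F
    haveI : Fact (Nat.Prime 3) := ⟨Nat.prime_three⟩
    obtain ⟨j, -, hj⟩ := FiniteField.card F 3
    rcases Nat.even_or_odd (j : ℕ) with ⟨i, hi⟩ | ⟨i, hi⟩
    · exfalso
      rw [hj, hi, ← two_mul, pow_mul, Nat.pow_mod] at hm
      norm_num at hm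
    · exact Or.inr (Or.inr ⟨F, _, _, i, hj.trans (by rw [hi]), ⟨e⟩⟩)
  · exact ⟨(j1_noFour.of_injective e.toMonoidHom e.injective).not_involves_four,
      Or.inl (j1_invertsThree.map e.symm.toMonoidHom e.symm.injective)⟩

end Cfsg.Agent.GoldSFour
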