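import Cfsg.Agent.Lib.GoldSFour.PSLTwo
import Cfsg.Agent.Lib.Coprime.Sylow
import Cfsg.Agent.Lib.Transfer.NormalPComplement

/-!
# Sections of degree three and four in groups of Ree type
-/

set_option autoImplicit false
set_option linter.unusedSectionVars false
set_option linter.style.haveILetI false

namespace Cfsg.Agent.GoldSFour

open Subgroup Cfsg

universe u v

variable {G : Type u} [Group G]

theorem z2_sq : ∀ z : Multiplicative (ZMod 2), z ^ 2 = 1 := by decide

theorem z2_cases : ∀ z u : Multiplicative (ZMod 2), u ≠ 1 → z = 1 ∨ z = u := by decide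

/-- An internal direct product as a product. -/
noncomputable def idpEquiv {S₁ S₂ S : Subgroup G} (h : IsInternalDirectProduct S₁ S₂ S) :
    S ≃* S₁ × S₂ :=
  (MulEquiv.ofBijective
    ({ toFun := fun x => ⟨(x.1 : G) * x.2, mul_mem (h.1 x.1.2) (h.2.1 x.2.2)⟩
       map_one' := Subtype.ext (one_mul 1)
       map_mul' := fun x y => Subtype.ext (by
        show (x.1 : G) * y.1 * ((x.2 : G) * y.2) = x.1 * x.2 * (y.1 * y.2)
        calc (x.1 : G) * y.1 * ((x.2 : G) * y.2) = x.1 * (y.1 * x.2) * y.2 := by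
              simp only [mul_assoc]
          _ = x.1 * (x.2 * y.1) * y.2 := by rw [h.2.2.1 _ y.1.2 _ x.2.2]
          _ = x.1 * x.2 * (y.1 * y.2) := by simp only [mul_assoc]) } : S₁ × S₂ →* S)
    ⟨(injective_iff_map_eq_one _).2 fun x hx => by
      have e : (x.1 : G) * x.2 = 1 := congrArg Subtype.val hx
      have hm : (x.1 : G) ∈ S₁ ⊓ S₂ := ⟨x.1.2, by
        rw [eq_inv_of_mul_eq_one_left e]; exact S₂.inv_mem x.2.2⟩
      rw [h.2.2.2.1, mem_bot] at hm
      rw [hm, one_mul] at e
      exact Prod.ext (Subtype.ext hm) (Subtype.ext e),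
    fun s => by
      have hs : (s : G) ∈ S₁ ⊔ S₂ := by rw [h.2.2.2.2]; exact s.2
      have hnorm : S₁ ≤ normalizer (S₂ : Set G) := fun a ha => by
        rw [mem_normalizer_iff]
        intro b
        constructor
        · intro hb
          rw [h.2.2.1 a ha b hb, mul_inv_cancel_right]; exact hb
        · intro hb
          have := h.2.2.1 a ha _ hb
          rw [inv_mul_cancel_right, mul_right_inj] at this
          exact this ▸ hb
      rw [← SetLike.mem_coe, coe_mul_of_left_le_normalizer_right S₁ S₂ hnorm] at hs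
      obtain ⟨a, ha, b, hb, e⟩ := hs
      exact ⟨(⟨a, ha⟩, ⟨b, hb⟩), Subtype.ext e⟩⟩).symm

variable {F : Type v} [Field F] [Fintype F] {n : ℕ}

local notation "PG" => Matrix.ProjectiveSpecialLinearGroup (Fin 2) F

theorem noFour_prod (hF : Fintype.card F = 3 ^ (2 * n + 1)) :
    NoFour (Multiplicative (ZMod 2) × PG) := by
  intro g hg
  refine Prod.ext ?_ (noFour_of_mod (Or.inl (card_mod_eight hF)) g.2 (congrArg Prod.snd hg))
  exact z2_sq g.1

variable [Finite G]

theorem noFour_of_centralizer (hF : Fintype.card F = 3 ^ (2 * n + 1)) {t : G}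
    (hodd : Odd (centralizer ({t} : Set G)).index)
    (e : centralizer ({t} : Set G) ≃* Multiplicative (ZMod 2) × PG) : NoFour G := by
  haveI : Fact (Nat.Prime 2) := ⟨Nat.prime_two⟩
  set C := centralizer ({t} : Set G)
  obtain ⟨SC⟩ : Nonempty (Sylow 2 C) := inferInstance
  have hp : IsPGroup 2 ((SC : Subgroup C).map C.subtype) := SC.2.map _
  have hidx : ¬ 2 ∣ ((SC : Subgroup C).map C.subtype).index := by
    rw [index_map_subtype]
    intro hd
    rcases (Nat.prime_two.dvd_mul).1 hd with h | h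
    · exact SC.not_dvd_index h
    · exact Nat.not_even_iff_odd.2 hodd (even_iff_two_dvd.2 h)
  intro g hg
  have hz : IsPGroup 2 (zpowers g) :=
    (IsPGroup.iff_card).2 (by
      obtain ⟨j, -, hj⟩ := (Nat.dvd_prime_pow Nat.prime_two).1
        (orderOf_dvd_of_pow_eq_one (show g ^ 2 ^ 2 = 1 from hg))
      exact ⟨j, by rw [Nat.card_zpowers, hj]⟩)
  obtain ⟨R, hR⟩ := hz.exists_le_sylow
  obtain ⟨x, hx⟩ := MulAction.exists_smul_eq G (hp.toSylow hidx) R
  have hgR : g ∈ (R : Subgroup G) := hR (mem_zpowers g)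
  rw [← hx, Sylow.coe_subgroup_smul, mem_pointwise_smul_iff_inv_smul_mem] at hgR
  obtain ⟨c, -, hc⟩ := hgR
  have hC : NoFour C := (noFour_prod hF).of_injective e.toMonoidHom e.injective
  set φ := (MulAut.conj x)⁻¹ with hφ
  have hc' : (c : G) = φ g := hc
  have h4 : c ^ 4 = 1 := Subtype.ext (by
    rw [Subgroup.coe_pow, hc', ← map_pow, hg, map_one, Subgroup.coe_one])
  apply φ.injective
  rw [map_pow, map_one, ← hc', ← Subgroup.coe_pow, hC c h4, Subgroup.coe_one]

theorem comm_sylow_two (h : NoFour G) (P : Sylow 2 G) (a b : P) : a * b = b * a :=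
  h.comm_of_isPGroup P.2 a b

theorem card_dvd_of_three_group (hF : Fintype.card F = 3 ^ (2 * n + 1)) {t : G}
    (e : centralizer ({t} : Set G) ≃* Multiplicative (ZMod 2) × PG) {R : Subgroup G}
    (hR : IsPGroup 3 R) (hRC : R ≤ centralizer ({t} : Set G)) :
    Nat.card R ∣ Fintype.card F := by
  haveI : Fact (Nat.Prime 3) := ⟨Nat.prime_three⟩
  obtain ⟨j, hj⟩ := IsPGroup.iff_card.1 hR
  have h1 : Nat.card R ∣ 2 * Nat.card PG := by
    refine dvd_trans (card_dvd_of_le hRC) (dvd_of_eq ?_)
    rw [Nat.card_congr e.toEquiv, Nat.card_prod, Nat.card_congr Multiplicative.toAdd, Nat.card_zmod]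
  have h2 := PSLOrderSpectrum.card_psl_two (F := F)
  have hq : Fintype.card F % 3 = 0 := by rw [hF, pow_succ]; simp
  have hgcd : Nat.gcd 2 (Fintype.card F - 1) = 2 := by
    refine Nat.gcd_eq_left ?_
    have := card_mod_eight hF
    omega
  rw [hgcd] at h2
  rw [h2, hj] at h1
  rw [hj]
  refine (Nat.Coprime.dvd_mul_right ?_).1 h1
  refine Nat.Coprime.pow_left j ((Nat.prime_three.coprime_iff_not_dvd).2 ?_)
  intro hd
  have := Fintype.one_lt_card (α := F)
  rcases (Nat.prime_three.dvd_mul).1 hd with h | h <;> omega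

/-- An involution inverts an element of order three when the centralizer of some element of order three
has too large a 3-part. -/
theorem invertsThree_of_dvd (hF : Fintype.card F = 3 ^ (2 * n + 1)) {t : G} (ht : orderOf t = 2)
    (h4 : NoFour G)
    (e : centralizer ({t} : Set G) ≃* Multiplicative (ZMod 2) × PG)
    (hbig : Fintype.card F * 3 ∣ Nat.card G) : InvertsThree G := by
  classical
  haveI : Fact (Nat.Prime 2) := ⟨Nat.prime_two⟩
  haveI : Fact (Nat.Prime 3) := ⟨Nat.prime_three⟩
  set C := centralizer ({t} : Set G) with hC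
  have ht2 : t * t = 1 := by rw [← pow_two, ← ht]; exact pow_orderOf_eq_one t
  have ht1 : t ≠ 1 := fun h => by rw [h, orderOf_one] at ht; omega
  have htC : t ∈ C := mem_centralizer_singleton_iff.2 rfl
  -- the coordinates of `t`
  set τ := e ⟨t, htC⟩ with hτ
  -- a 3-group of `C` and a Sylow subgroup above it
  obtain ⟨Q⟩ : Nonempty (Sylow 3 C) := inferInstance
  obtain ⟨P, hQP⟩ := ((Q.2.map C.subtype)).exists_le_sylow
  obtain ⟨qn, hqn⟩ : ∃ j, Fintype.card F * 3 = 3 ^ j := ⟨2 * n + 2, by rw [hF, ← pow_succ]⟩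
  have hPbig : Fintype.card F * 3 ∣ Nat.card (P : Subgroup G) := by
    rw [hqn] at hbig ⊢
    exact P.pow_dvd_card_of_pow_dvd_card hbig
  have hnot : ∀ R : Subgroup G, IsPGroup 3 R → Fintype.card F * 3 ∣ Nat.card R → ¬ R ≤ C := by
    intro R hR hd hle
    have h := Nat.le_of_dvd (Fintype.card_pos) (hd.trans (card_dvd_of_three_group hF e hR hle))
    have := Fintype.card_pos (α := F)
    omega
  have hQcard : Nat.card (Q : Subgroup C) = Fintype.card F := by
    have h1 : Fintype.card F ∣ Nat.card C := by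
      rw [Nat.card_congr e.toEquiv, Nat.card_prod, Nat.card_congr Multiplicative.toAdd, Nat.card_zmod]
      have h2 := PSLOrderSpectrum.card_psl_two (F := F)
      have hgcd : Nat.gcd 2 (Fintype.card F - 1) = 2 := by
        refine Nat.gcd_eq_left ?_
        have := card_mod_eight hF
        omega
      rw [hgcd] at h2
      exact h2 ▸ Dvd.intro _ rfl
    refine Nat.dvd_antisymm ?_ ?_
    · have h := card_dvd_of_three_group hF e (Q.2.map C.subtype) (map_subtype_le _)
      rwa [card_map_of_injective C.subtype_injective] at h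
    · rw [hF] at h1 ⊢
      exact Q.pow_dvd_card_of_pow_dvd_card h1
  have pow_three : ∀ {H : Subgroup G} (y : G), IsPGroup 3 H → y ∈ H → y ≠ 1 →
      ∃ i : ℕ, y ^ i ≠ 1 ∧ (y ^ i) ^ 3 = 1 := by
    intro H y hH hy hy1
    obtain ⟨k, hk⟩ := hH ⟨y, hy⟩
    have hk' : y ^ 3 ^ k = 1 := congrArg Subtype.val hk
    obtain ⟨j, -, hj⟩ := (Nat.dvd_prime_pow Nat.prime_three).1 (orderOf_dvd_of_pow_eq_one hk')
    obtain ⟨j, rfl⟩ : ∃ i, j = i + 1 := Nat.exists_eq_succ_of_ne_zero (by
      rintro rfl
      exact hy1 (orderOf_eq_one_iff.1 hj))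
    refine ⟨3 ^ j, fun h => ?_, ?_⟩
    · have := Nat.le_of_dvd (by positivity) (hj ▸ orderOf_dvd_of_pow_eq_one h)
      rw [pow_succ] at this
      have : 0 < 3 ^ j := by positivity
      omega
    · rw [← pow_mul, ← pow_succ, ← hj, pow_orderOf_eq_one]
  -- an element of order three in `C` with a large centralizer
  obtain ⟨w, hwC, hw1, hw3, R, hRp, hRw, hRbig⟩ :
      ∃ w ∈ C, w ≠ 1 ∧ w ^ 3 = 1 ∧ ∃ R : Subgroup G, IsPGroup 3 R ∧
        R ≤ centralizer ({w} : Set G) ∧ Fintype.card F * 3 ∣ Nat.card R := by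
    haveI : Nontrivial (P : Subgroup G) := by
      refine Finite.one_lt_card_iff_nontrivial.1 ?_
      have := Nat.le_of_dvd Nat.card_pos hPbig
      have := Fintype.card_pos (α := F)
      omega
    haveI := P.2.center_nontrivial
    obtain ⟨⟨z, hz⟩, hz1⟩ := exists_ne (1 : Subgroup.center (P : Subgroup G))
    have hzG1 : (z : G) ≠ 1 := fun h => hz1 (Subtype.ext (Subtype.ext h))
    have hzcomm : ∀ y ∈ (P : Subgroup G), y * (z : G) = z * y := fun y hy =>
      congrArg Subtype.val (Subgroup.mem_center_iff.1 hz ⟨y, hy⟩)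
    by_cases hzC : (z : G) ∈ C
    · obtain ⟨i, hi1, hi3⟩ := pow_three (z : G) P.2 z.2 hzG1
      refine ⟨(z : G) ^ i, pow_mem hzC i, hi1, hi3, P, P.2, fun y hy => ?_, hPbig⟩
      exact mem_centralizer_singleton_iff.2
        ((show Commute y (z : G) from hzcomm y hy).pow_right i).eq
    · set QG := (Q : Subgroup C).map C.subtype with hQG
      haveI : Nontrivial QG := by
        refine Finite.one_lt_card_iff_nontrivial.1 ?_
        rw [hQG, card_map_of_injective C.subtype_injective, hQcard]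
        exact Fintype.one_lt_card
      haveI := (Q.2.map C.subtype).center_nontrivial
      obtain ⟨⟨y, hy⟩, hy1⟩ := exists_ne (1 : Subgroup.center QG)
      have hyG1 : (y : G) ≠ 1 := fun h => hy1 (Subtype.ext (Subtype.ext h))
      obtain ⟨i, hi1, hi3⟩ := pow_three (y : G) (Q.2.map C.subtype) y.2 hyG1
      refine ⟨(y : G) ^ i, pow_mem (map_subtype_le _ y.2) i, hi1, hi3, QG ⊔ zpowers (z : G),
        P.2.to_le (sup_le hQP (zpowers_le.2 z.2)), sup_le (fun s hs => ?_) (zpowers_le.2 ?_),
        ?_⟩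
      · exact mem_centralizer_singleton_iff.2
          ((show Commute s (y : G) from
            congrArg Subtype.val (Subgroup.mem_center_iff.1 hy ⟨s, hs⟩)).pow_right i).eq
      · exact mem_centralizer_singleton_iff.2
          ((show Commute (z : G) (y : G) from (hzcomm _ (hQP y.2)).symm).pow_right i).eq
      · obtain ⟨j, hj⟩ := IsPGroup.iff_card.1
          (P.2.to_le (sup_le hQP (zpowers_le.2 z.2)) : IsPGroup 3 (QG ⊔ zpowers (z : G) : Subgroup G))
        have hlt : QG < QG ⊔ zpowers (z : G) := lt_of_le_of_ne le_sup_left fun h => hzC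
          (map_subtype_le (Q : Subgroup C) (h.ge (le_sup_right (a := QG) (mem_zpowers _))))
        have hcard : Nat.card QG < Nat.card (QG ⊔ zpowers (z : G) : Subgroup G) :=
          lt_of_le_of_ne (card_le_of_le hlt.le) fun h => hlt.ne (eq_of_le_of_card_ge hlt.le h.ge)
        rw [hQG, card_map_of_injective C.subtype_injective, hQcard] at hcard
        rw [← hQG, hj, hF] at hcard
        rw [hj, hF, ← pow_succ]
        exact pow_dvd_pow 3 ((Nat.pow_lt_pow_iff_right (by norm_num)).1 hcard)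
  set M := centralizer ({w} : Set G) with hM
  have htM : t ∈ M := mem_centralizer_singleton_iff.2 (mem_centralizer_singleton_iff.1 hwC).symm
  -- elements of square one of `C ⊓ M`
  have hCM : ∀ c ∈ C, c ∈ M → c * c = 1 → c = 1 ∨ c = t := by
    intro c hc hcM hc2
    set W := e ⟨w, hwC⟩ with hW
    have hW3 : W.2 ^ 3 = 1 := by
      rw [← Prod.pow_snd, hW, ← map_pow,
        show (⟨w, hwC⟩ : C) ^ 3 = 1 from Subtype.ext hw3, map_one]
      rfl
    have hW1 : W.2 ≠ 1 := by
      intro h
      have : W ^ 2 = 1 := Prod.ext (z2_sq W.1) (by rw [Prod.pow_snd, h, one_pow]; rfl)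
      rw [hW, ← map_pow] at this
      have hw2 : w ^ 2 = 1 := congrArg Subtype.val ((map_eq_one_iff e e.injective).1 this)
      rw [pow_succ, hw2, one_mul] at hw3
      exact hw1 hw3
    have key : ∀ d (hd : d ∈ C), d * d = 1 → d ∈ M → (e ⟨d, hd⟩).2 = 1 := by
      intro d hd hd2 hdM
      by_contra hne
      refine (no_norm_three hF ?_ hne hW3 hW1).1 ?_
      · rw [← Prod.snd_mul, ← map_mul, show (⟨d, hd⟩ : C) * ⟨d, hd⟩ = 1 from Subtype.ext hd2,
          map_one]
        rfl
      · rw [mul_inv_eq_iff_eq_mul, hW, ← Prod.snd_mul, ← Prod.snd_mul, ← map_mul, ← map_mul]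
        exact congrArg (fun c => (e c).2) (Subtype.ext (mem_centralizer_singleton_iff.1 hdM))
    have h1 := key c hc hc2 hcM
    have h2 : τ.2 = 1 := key t htC ht2 htM
    rcases z2_cases (e ⟨c, hc⟩).1 τ.1 (fun h => ht1 (congrArg Subtype.val
      ((map_eq_one_iff e e.injective).1 (show e ⟨t, htC⟩ = 1 from Prod.ext h h2)))) with h | h
    · exact Or.inl (congrArg Subtype.val ((map_eq_one_iff e e.injective).1
        (show e ⟨c, hc⟩ = 1 from Prod.ext h h1)))
    · exact Or.inr (congrArg Subtype.val (e.injective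
        (show e ⟨c, hc⟩ = e ⟨t, htC⟩ from Prod.ext h (h1.trans h2.symm))))
  -- a Sylow 2-subgroup of `M` is generated by `t`
  set tM : M := ⟨t, htM⟩ with htMdef
  have htM2 : orderOf tM = 2 := by rw [← Subgroup.orderOf_coe]; exact ht
  obtain ⟨S, hS⟩ := (IsPGroup.of_card (n := 1) (G := zpowers tM)
    (by rw [Nat.card_zpowers, htM2, pow_one])).exists_le_sylow
  have hM4 : NoFour M := h4.of_injective M.subtype M.subtype_injective
  have hSt : (S : Subgroup M) = zpowers tM := by
    refine le_antisymm (fun s hs => ?_) hS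
    have hcomm := congrArg Subtype.val (congrArg Subtype.val
      (hM4.comm_of_isPGroup S.2 ⟨s, hs⟩ ⟨tM, hS (mem_zpowers tM)⟩))
    have hs2 : s * s = 1 := by
      obtain ⟨k, hk⟩ := S.2 ⟨s, hs⟩
      have : ∀ j : ℕ, s ^ 2 ^ (j + 1) = 1 → s ^ 2 = 1 := by
        intro j
        induction j with
        | zero => simp
        | succ j ih =>
          intro hj
          refine ih ?_
          rw [pow_succ, pow_mul]
          refine hM4 _ ?_
          rw [← pow_mul, show 2 ^ j * 4 = 2 ^ (j + 1 + 1) from by ring, hj]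
      rw [← pow_two]
      refine this k ?_
      rw [pow_succ, pow_mul, show s ^ 2 ^ k = 1 from congrArg Subtype.val hk, one_pow]
    rcases hCM (s : G) (mem_centralizer_singleton_iff.2 hcomm) s.2 (congrArg Subtype.val hs2) with h | h
    · rw [show s = 1 from Subtype.ext h]; exact one_mem _
    · rw [show s = tM from Subtype.ext h]; exact mem_zpowers _
  have hN : normalizer ((S : Subgroup M) : Set M) ≤ centralizer ((S : Subgroup M) : Set M) := by
    intro x hx
    rw [mem_centralizer_iff]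
    intro y hy
    have hyt : ∀ z ∈ (S : Subgroup M), z = 1 ∨ z = tM := by
      intro z hz
      rw [hSt] at hz
      obtain ⟨i, hi⟩ := mem_zpowers_iff.1 hz
      rcases Int.even_or_odd i with ⟨j, hj⟩ | ⟨j, hj⟩
      · left; rw [← hi, hj, ← two_mul, zpow_mul]
        simp [show tM ^ (2 : ℤ) = 1 by rw [zpow_two]; exact Subtype.ext ht2]
      · right; rw [← hi, hj, zpow_add, zpow_mul]
        simp [show tM ^ (2 : ℤ) = 1 by rw [zpow_two]; exact Subtype.ext ht2]
    rcases hyt y hy with rfl | rfl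
    · simp
    rcases hyt _ ((mem_normalizer_iff.1 hx tM).1 hy) with h | h
    · rw [conj_eq_one_iff] at h; rw [h]; simp
    · rw [mul_inv_eq_iff_eq_mul] at h; exact h.symm
  set O := (MonoidHom.transferSylow S hN).ker
  have hOodd : ¬ 2 ∣ Nat.card O := MonoidHom.not_dvd_card_ker_transferSylow S hN
  have hOidx : O.index = 2 := by
    rw [(MonoidHom.ker_transferSylow_isComplement' S hN).symm.index_eq_card, hSt, Nat.card_zpowers,
      htM2]
  set OG := O.map M.subtype with hOG
  have hOGcard : Nat.card OG = Nat.card O := card_map_of_injective M.subtype_injective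
  have hRO : R ≤ OG := by
    intro r hr
    refine ⟨⟨r, hRw hr⟩, ?_, rfl⟩
    obtain ⟨k, hk⟩ := hRp ⟨r, hr⟩
    have hk' : (⟨r, hRw hr⟩ : M) ^ 3 ^ k = 1 := Subtype.ext (congrArg Subtype.val hk :)
    rw [SetLike.mem_coe, ← QuotientGroup.eq_one_iff, ← orderOf_eq_one_iff]
    refine Nat.eq_one_of_dvd_coprimes (Nat.Coprime.pow_right k (by norm_num : Nat.Coprime 2 3))
      ?_ ((orderOf_map_dvd (QuotientGroup.mk' O) _).trans (orderOf_dvd_of_pow_eq_one hk'))
    exact (_root_.orderOf_dvd_natCard _).trans (dvd_of_eq hOidx)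
  have hnorm : zpowers t ≤ normalizer (OG : Set G) := by
    refine zpowers_le.2 (le_normalizer_map M.subtype ⟨tM, ?_, rfl⟩)
    rw [SetLike.mem_coe, normalizer_eq_top]
    exact mem_top _
  obtain ⟨P', hP'⟩ := Coprime.exists_invariant_sylow 3 hnorm (by
      rw [Nat.card_zpowers, ht, hOGcard]
      exact Nat.prime_two.coprime_iff_not_dvd.2 hOodd)
    (Or.inl inferInstance)
  set PG' := (P' : Subgroup OG).map OG.subtype with hPG'
  have hP'not : ¬ PG' ≤ C := by
    intro hle
    obtain ⟨R', hR'⟩ := (hRp.comap_subtype (K := OG)).exists_le_sylow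
    have hcard : Nat.card (R' : Subgroup OG) = Nat.card (P' : Subgroup OG) :=
      Nat.card_congr (Sylow.equiv R' P').toEquiv
    refine hnot PG' (P'.2.map OG.subtype) (hRbig.trans ?_) hle
    rw [hPG', card_map_of_injective OG.subtype_injective, ← hcard,
      ← Nat.card_congr (subgroupOfEquivOfLe hRO).toEquiv]
    exact card_dvd_of_le hR'
  obtain ⟨x, hxP, hxC⟩ := SetLike.not_le_iff_exists.1 hP'not
  set z := x * t * x⁻¹ * t⁻¹ with hz
  have hti : t⁻¹ = t := inv_eq_of_mul_eq_one_right ht2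
  have hzP : z ∈ PG' := by
    have : t * x⁻¹ * t⁻¹ ∈ PG' := (mem_normalizer_iff.1 (hP' (mem_zpowers t)) x⁻¹).1 (inv_mem hxP)
    rw [hz, show x * t * x⁻¹ * t⁻¹ = x * (t * x⁻¹ * t⁻¹) by simp only [mul_assoc]]
    exact mul_mem hxP this
  have hz1 : z ≠ 1 := fun h => hxC (mem_centralizer_singleton_iff.2 (by
    rw [hz, mul_inv_eq_one, mul_inv_eq_iff_eq_mul] at h
    exact h))
  have hzinv : t * z * t⁻¹ = z⁻¹ := by
    rw [hz, mul_inv_rev, mul_inv_rev, mul_inv_rev, inv_inv, inv_inv, hti]
    simp only [mul_assoc]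
    rw [ht2, mul_one]
  obtain ⟨i, hi1, hi3⟩ := pow_three z (P'.2.map OG.subtype) hzP hz1
  exact ⟨t, z ^ i, ht2, hi1, hi3, by rw [← conj_pow, hzinv, inv_pow]⟩

end Cfsg.Agent.GoldSFour
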