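import Cfsg.Prelude.Def_LocalEven
import Cfsg.Agent.Lib.PLocal.InvolvesS4
import Cfsg.Agent.Lib.Fusion.ThreeFree
import Cfsg.Agent.Lib.CharP.InvertedElement
import Cfsg.Agent.S3755

/-!
# Sections isomorphic to symmetric groups of degree three and four
-/

set_option autoImplicit false
set_option linter.unusedSectionVars false
set_option linter.style.haveILetI false

namespace Cfsg.Agent.GoldSFour

open Subgroup Equiv Cfsg
open Cfsg.Agent.Fusion.LocalModels (involves_of_injective involves_of_surj exists_surj)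

/-- No element of order four. -/
def NoFour (G : Type*) [Monoid G] : Prop := ∀ g : G, g ^ 4 = 1 → g ^ 2 = 1

/-- An involution inverts an element of order three. -/
def InvertsThree (G : Type*) [Group G] : Prop :=
  ∃ a x : G, a * a = 1 ∧ x ≠ 1 ∧ x ^ 3 = 1 ∧ a * x * a⁻¹ = x⁻¹

variable {G H : Type*} [Group G] [Group H]

theorem NoFour.of_injective (h : NoFour H) (f : G →* H) (hf : Function.Injective f) : NoFour G :=
  fun g hg => hf (by
    rw [map_pow, map_one]
    exact h _ (by rw [← map_pow, hg, map_one]))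

theorem InvertsThree.map (h : InvertsThree G) (f : G →* H) (hf : Function.Injective f) :
    InvertsThree H := by
  obtain ⟨a, x, ha, hx1, hx3, hax⟩ := h
  refine ⟨f a, f x, by rw [← map_mul, ha, map_one], fun e => hx1 (hf (e.trans (map_one f).symm)),
    by rw [← map_pow, hx3, map_one], ?_⟩
  rw [← map_inv, ← map_mul, ← map_mul, hax, map_inv]

theorem InvertsThree.involves [Finite G] (h : InvertsThree G) : Involves (Perm (Fin 3)) G := by
  obtain ⟨a, x, ha, hx1, hx3, hax⟩ := h
  have hax' : a * x * a = x⁻¹ := by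
    conv_lhs => arg 2; rw [← inv_eq_of_mul_eq_one_right ha]
    exact hax
  have ha1 : a ≠ 1 := by
    rintro rfl
    rw [one_mul, mul_one] at hax'
    have h2 : x * x = 1 := by nth_rewrite 2 [hax']; exact mul_inv_cancel x
    rw [pow_succ, pow_two, h2, one_mul] at hx3
    exact hx1 hx3
  exact involves_of_injective (⊤ : Subgroup G).subtype (⊤ : Subgroup G).subtype_injective
    (Cfsg.Agent.S3755.three_section (M := (⊤ : Subgroup G)) (mem_top a) (mem_top x) ha ha1 hx3 hx1
      hax')

/-- A section of degree four needs an element of order four. -/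
theorem NoFour.not_involves_four [Finite G] (h : NoFour G) : ¬ Involves (Perm (Fin 4)) G := by
  intro hI
  obtain ⟨K, f, hf⟩ := exists_surj hI
  have key : ∃ s : Perm (Fin 4), s ^ 4 = 1 ∧ s ^ 2 ≠ 1 := ⟨finRotate 4, by decide, by decide⟩
  obtain ⟨s, hs4, hs2⟩ := key
  obtain ⟨k, hk⟩ := hf s
  have ho : orderOf s = 4 := orderOf_eq_prime_pow (p := 2) (n := 1) hs2 hs4
  have hd : 4 ∣ orderOf k := by rw [← ho, ← hk]; exact orderOf_map_dvd f k
  have h4 : orderOf ((k : G) ^ (orderOf k / 4)) = 4 := by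
    rw [← Subgroup.coe_pow, Subgroup.orderOf_coe, orderOf_pow_orderOf_div (orderOf_pos k).ne' hd]
  have h2 := orderOf_dvd_of_pow_eq_one (h _ (h4 ▸ pow_orderOf_eq_one _))
  rw [h4] at h2
  norm_num at h2

/-- Without elements of order four a section of degree three gives an inverted element. -/
theorem NoFour.invertsThree [Finite G] (h : NoFour G) (hI : Involves (Perm (Fin 3)) G) :
    InvertsThree G := by
  obtain ⟨K, f, hf⟩ := exists_surj hI
  have key : ∃ s r : Perm (Fin 3), s ^ 2 = 1 ∧ s ≠ 1 ∧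
      ((r * s * r⁻¹ * s⁻¹) ^ 3 = 1 ∧ r * s * r⁻¹ * s⁻¹ ≠ 1) :=
    ⟨swap 0 1, finRotate 3, by decide, by decide, by decide, by decide⟩
  obtain ⟨s, r, hs, hs1, hc3, hc1⟩ := key
  obtain ⟨y, hy⟩ := hf s
  have hso : orderOf s = 2 := orderOf_eq_prime hs hs1
  obtain ⟨c, k, hck, hpow⟩ := CharP.InvertedElement.exists_qElement f Nat.prime_two (y := y)
    (by rw [hy, hso])
  set a : K := y ^ c with ha
  have hKfour : NoFour K := h.of_injective K.subtype K.subtype_injective
  have ha2 : a ^ 2 = 1 := by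
    have : ∀ j : ℕ, a ^ 2 ^ (j + 1) = 1 → a ^ 2 = 1 := by
      intro j
      induction j with
      | zero => simp
      | succ j ih =>
        intro hj
        refine ih ?_
        have h4 : (a ^ 2 ^ j) ^ 4 = 1 := by
          rw [← pow_mul, show 2 ^ j * 4 = 2 ^ (j + 1 + 1) from by ring, hj]
        rw [pow_succ, pow_mul]
        exact hKfour _ h4
    refine this k ?_
    rw [pow_succ, pow_mul, hpow, one_pow]
  have hfa : f a = s := by
    rw [ha, map_pow, hy] at hck ⊢
    rcases Nat.even_or_odd c with ⟨m, hm⟩ | ⟨m, hm⟩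
    · exfalso
      rw [show c = 2 * m by omega, pow_mul, hs, one_pow, orderOf_one] at hck
      omega
    · rw [hm, pow_succ, pow_mul, hs, one_pow, one_mul]
  obtain ⟨x, hx⟩ := hf r
  set z : K := x * a * x⁻¹ * a⁻¹ with hz
  have hfz : f z = r * s * r⁻¹ * s⁻¹ := by
    rw [hz, map_mul, map_mul, map_mul, map_inv, map_inv, hfa, hx]
  have hzinv : a * z * a⁻¹ = z⁻¹ := by
    have hai : a⁻¹ = a := inv_eq_of_mul_eq_one_right (by rw [← pow_two, ha2])
    rw [hz, mul_inv_rev, mul_inv_rev, mul_inv_rev, inv_inv, inv_inv, hai]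
    simp only [mul_assoc]
    rw [show a * a = 1 by rw [← pow_two, ha2], mul_one]
  have h3 : 3 ∣ orderOf z := by
    have : orderOf (f z) = 3 := orderOf_eq_prime (hfz ▸ hc3) (hfz ▸ hc1)
    exact this ▸ orderOf_map_dvd f z
  obtain ⟨e, he, heinv⟩ := CharP.InvertedElement.exists_prime_power h3 hzinv
  refine (show InvertsThree K from ⟨a, z ^ e, ?_, ?_, ?_, heinv⟩).map K.subtype
    K.subtype_injective
  · rw [← pow_two, ha2]
  · intro e1
    rw [e1, orderOf_one] at he
    omega
  · rw [← he]; exact pow_orderOf_eq_one _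

/-- A finite 2-group without elements of order four is abelian. -/
theorem NoFour.comm_of_isPGroup (h : NoFour G) {P : Subgroup G} (hP : IsPGroup 2 P) (a b : P) :
    a * b = b * a := by
  have hsq : ∀ x : P, x * x = 1 := by
    intro x
    obtain ⟨k, hk⟩ := hP x
    have : ∀ j : ℕ, (x : G) ^ 2 ^ (j + 1) = 1 → (x : G) ^ 2 = 1 := by
      intro j
      induction j with
      | zero => simp
      | succ j ih =>
        intro hj
        refine ih ?_
        rw [pow_succ, pow_mul]
        refine h _ ?_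
        rw [← pow_mul, show 2 ^ j * 4 = 2 ^ (j + 1 + 1) from by ring, hj]
    refine Subtype.ext ?_
    rw [Subgroup.coe_mul, ← pow_two]
    refine this k ?_
    rw [pow_succ, pow_mul, ← Subgroup.coe_pow, hk, Subgroup.coe_one, one_pow]
  have hinv : ∀ x : P, x⁻¹ = x := fun x => inv_eq_of_mul_eq_one_right (hsq x)
  calc a * b = (a * b)⁻¹ := (hinv _).symm
    _ = b⁻¹ * a⁻¹ := mul_inv_rev a b
    _ = b * a := by rw [hinv, hinv]

/-- A section of degree three needs an order divisible by three. -/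
theorem not_involves_three_of_not_dvd [Finite G] (h : ¬ 3 ∣ Nat.card G) :
    ¬ Involves (Perm (Fin 3)) G := by
  intro hI
  obtain ⟨K, f, hf⟩ := exists_surj hI
  refine h (dvd_trans ?_ K.card_subgroup_dvd_card)
  refine dvd_trans ?_ (Subgroup.card_dvd_of_surjective f hf)
  rw [Nat.card_perm, Nat.card_fin]
  decide

/-- `S₄` has a section `S₃`. -/
theorem not_involves_four_of_three (h : ¬ Involves (Perm (Fin 3)) G) :
    ¬ Involves (Perm (Fin 4)) G := by
  intro hI
  obtain ⟨K, f, hf⟩ := exists_surj hI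
  exact h (involves_of_surj (PLocal.InvolvesS4.toS3.comp f)
    (PLocal.InvolvesS4.toS3_surjective.comp hf))

/-- A group all of whose 2-elements lie in a normal 2-subgroup has no section of degree three. -/
theorem not_involves_three_of_closed [Finite G] (W : Subgroup G) [W.Normal] (hW : IsPGroup 2 W)
    (hall : ∀ (g : G) (k : ℕ), g ^ 2 ^ k = 1 → g ∈ W) : ¬ Involves (Perm (Fin 3)) G := by
  intro hI
  obtain ⟨K, f, hf⟩ := exists_surj hI
  haveI : ((W.subgroupOf K).map f).Normal := Subgroup.Normal.map inferInstance f hf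
  have hWK : IsPGroup 2 (W.subgroupOf K) := hW.comap_subtype
  have hbot := Fusion.ThreeFree.normal_two_subgroup_perm ((W.subgroupOf K).map f) (hWK.map f)
  obtain ⟨y, hy⟩ := hf (swap 0 1)
  have ho : orderOf (f y) = 2 := by rw [hy]; exact orderOf_eq_prime (by decide) (by decide)
  obtain ⟨c, k, hck, hpow⟩ := CharP.InvertedElement.exists_qElement f Nat.prime_two (y := y) ho
  have hmem : f (y ^ c) ∈ (W.subgroupOf K).map f :=
    mem_map_of_mem f (mem_subgroupOf.2 (hall _ k (by
      rw [← Subgroup.coe_pow, hpow, Subgroup.coe_one])))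
  rw [hbot, mem_bot] at hmem
  rw [hmem, orderOf_one] at hck
  omega

/-- With Sylow 2-subgroups meeting trivially and 2-closed normalisers there is no section `S₄`. -/
theorem not_involves_four_of_ti [Finite G]
    (hTI : ∀ (P R : Sylow 2 G) (x : G), x ∈ P → x ∈ R → x ≠ 1 → P = R) :
    ¬ Involves (Perm (Fin 4)) G := by
  haveI : Fact (Nat.Prime 2) := ⟨Nat.prime_two⟩
  intro hI
  obtain ⟨T, hT, h3⟩ := PLocal.InvolvesS4.exists_of_involves hI
  set N := normalizer (T : Set G) with hN
  set q := QuotientGroup.mk' ((centralizer (T : Set G)).subgroupOf N) with hq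
  by_cases hT1 : T = ⊥
  · refine not_involves_three_of_closed ⊥ IsPGroup.of_bot (fun g k _ => ?_) h3
    obtain ⟨y, rfl⟩ := QuotientGroup.mk'_surjective _ g
    rw [mem_bot, QuotientGroup.mk'_apply, QuotientGroup.eq_one_iff, mem_subgroupOf,
      mem_centralizer_iff]
    intro z hz
    rw [hT1] at hz
    rw [mem_bot.1 hz, one_mul, mul_one]
  obtain ⟨S, hTS⟩ := hT.exists_le_sylow
  obtain ⟨x, hxT, hx1⟩ := T.ne_bot_iff_exists_ne_one.1 hT1 |>.elim fun x hx =>
    (⟨(x : G), x.2, fun e => hx (Subtype.ext e)⟩ : ∃ x, x ∈ T ∧ x ≠ 1)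
  have huniq : ∀ R : Sylow 2 G, T ≤ R → R = S := fun R hR => hTI R S x (hR hxT) (hTS hxT) hx1
  set W₀ : Subgroup N := (S : Subgroup G).subgroupOf N
  have hall : ∀ (g : N) (k : ℕ), g ^ 2 ^ k = 1 → g ∈ W₀ := by
    intro g k hg
    have hp : IsPGroup 2 (T ⊔ zpowers (g : G) : Subgroup G) := by
      refine IsPGroup.to_sup_of_normal_left' hT ?_ (zpowers_le.2 g.2)
      intro z
      obtain ⟨i, hi⟩ := mem_zpowers_iff.1 z.2
      refine ⟨k, Subtype.ext ?_⟩
      rw [Subgroup.coe_pow, ← hi, ← zpow_natCast, ← zpow_mul, mul_comm, zpow_mul, zpow_natCast,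
        ← Subgroup.coe_pow, hg, Subgroup.coe_one, one_zpow, Subgroup.coe_one]
    obtain ⟨R, hR⟩ := hp.exists_le_sylow
    have := huniq R (le_sup_left.trans hR)
    exact mem_subgroupOf.2 (this ▸ hR (le_sup_right (a := T) (mem_zpowers (g : G))))
  haveI : W₀.Normal := ⟨fun w hw g => by
    obtain ⟨k, hk⟩ := (S.2.comap_subtype : IsPGroup 2 W₀) ⟨w, hw⟩
    refine hall _ k ?_
    have hk' : w ^ 2 ^ k = 1 := congrArg Subtype.val hk
    rw [conj_pow, hk']
    simp⟩
  haveI : (W₀.map q).Normal := Subgroup.Normal.map inferInstance q (QuotientGroup.mk'_surjective _)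
  refine not_involves_three_of_closed (W₀.map q) ((S.2.comap_subtype : IsPGroup 2 W₀).map q) ?_ h3
  intro g k hg
  obtain ⟨y, rfl⟩ := QuotientGroup.mk'_surjective _ g
  obtain ⟨j, m, hm, hj⟩ := Nat.exists_eq_pow_mul_and_not_dvd (orderOf_pos y).ne' 2 (by norm_num)
  have hcop : Nat.Coprime m (2 ^ k) :=
    Nat.Coprime.pow_right k ((Nat.prime_two.coprime_iff_not_dvd.2 hm).symm)
  have hym : y ^ m ∈ W₀ := hall _ j (by rw [← pow_mul, mul_comm, ← hj, pow_orderOf_eq_one])
  obtain ⟨i, hi⟩ := exists_pow_eq_self_of_coprime (x := q y)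
    (Nat.Coprime.coprime_dvd_right (orderOf_dvd_of_pow_eq_one hg) hcop)
  rw [← hi, ← map_pow, ← map_pow]
  exact mem_map_of_mem q (pow_mem hym i)

end Cfsg.Agent.GoldSFour
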